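import Groth.Agent.DispExt.Mk
import Mathlib.LinearAlgebra.ExteriorPower.Basis

/-!
# Exterior powers of a 3n-display whose tangent module has rank one
-/

set_option autoImplicit false
set_option linter.style.haveILetI false
universe u v w

namespace Groth.Agent.DispExt

/-- A module with scalars acting through a ring map. -/
def Tw {A : Type u} [CommRing A] (_g : A →+* A) (N : Type v) : Type v := N

instance {A : Type u} [CommRing A] (g : A →+* A) (N : Type v) [AddCommGroup N] : AddCommGroup (Tw g N) :=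
  inferInstanceAs (AddCommGroup N)

noncomputable instance {A : Type u} [CommRing A] (g : A →+* A) (N : Type v) [AddCommGroup N] [Module A N] :
    Module A (Tw g N) :=
  Module.compHom N g

theorem exists_semilinear_ext {A : Type u} [CommRing A] (g : A →+* A) {M : Type v} [AddCommGroup M] [Module A M]
    (φ : M →ₛₗ[g] M) (n : ℕ) :
    ∃ Φ : (⋀[A]^n M) →ₛₗ[g] ⋀[A]^n M, ∀ x, Φ (exteriorPower.ιMulti A n x) = exteriorPower.ιMulti A n fun i => φ (x i) := by
  let a : M [⋀^Fin n]→ₗ[A] Tw g (⋀[A]^n M) :=
    { toFun := fun x => (exteriorPower.ιMulti A n fun i => φ (x i) : ⋀[A]^n M)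
      map_update_add' := fun x i y z => by
        have e : ∀ y, (fun j => φ (Function.update x i y j)) = Function.update (fun j => φ (x j)) i (φ y) :=
          fun y => funext fun j => Function.apply_update (fun _ => φ) x i y j
        rw [e, e, e, map_add]
        exact (exteriorPower.ιMulti A n).map_update_add _ _ _ _
      map_update_smul' := fun x i c y => by
        have e : ∀ y, (fun j => φ (Function.update x i y j)) = Function.update (fun j => φ (x j)) i (φ y) :=
          fun y => funext fun j => Function.apply_update (fun _ => φ) x i y j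
        rw [e, e, map_smulₛₗ]
        exact (exteriorPower.ιMulti A n).map_update_smul _ _ _ _
      map_eq_zero_of_eq' := fun x i j h hij =>
        (exteriorPower.ιMulti A n).map_eq_zero_of_eq (fun l => φ (x l)) (congrArg φ h) hij }
  let Φ₀ := exteriorPower.alternatingMapLinearEquiv a
  exact ⟨{ toFun := fun z => (Φ₀ z : ⋀[A]^n M), map_add' := map_add Φ₀, map_smul' := fun c z => map_smul Φ₀ c z },
    fun x => exteriorPower.alternatingMapLinearEquiv_apply_ιMulti a x⟩

theorem span_range_eq_top {A : Type u} [CommRing A] (g : A →+* A) {M : Type v} [AddCommGroup M] [Module A M]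
    (φ : M →ₛₗ[g] M) (hφ : Submodule.span A (Set.range φ) = ⊤) {n : ℕ} (Φ : (⋀[A]^n M) →ₛₗ[g] ⋀[A]^n M)
    (hΦ : ∀ x, Φ (exteriorPower.ιMulti A n x) = exteriorPower.ιMulti A n fun i => φ (x i)) :
    Submodule.span A (Set.range Φ) = ⊤ := by
  rw [eq_top_iff, ← exteriorPower.ιMulti_span_of_span A n M hφ, Submodule.span_le]
  rintro _ ⟨a, ha, rfl⟩
  choose x hx using fun i => ha (Set.mem_range_self i)
  refine Submodule.subset_span ⟨exteriorPower.ιMulti A n x, ?_⟩
  rw [hΦ, funext hx]

theorem finite_projective_ext {A : Type u} [CommRing A] (M : Type v) [AddCommGroup M] [Module A M]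
    [Module.Finite A M] [Module.Projective A M] (n : ℕ) :
    Module.Finite A (⋀[A]^n M) ∧ Module.Projective A (⋀[A]^n M) := by
  refine ⟨inferInstance, ?_⟩
  obtain ⟨r, π, s, h⟩ := DispTwenty.exists_coords A M
  refine Module.Projective.of_split (exteriorPower.map n s) (exteriorPower.map n π) ?_
  rw [← exteriorPower.map_comp, h, exteriorPower.map_id]

section Expansion

variable {A : Type u} [CommRing A] {M : Type v} [AddCommGroup M] [Module A M] {N : Type w} [AddCommGroup N] [Module A N]
  {n : ℕ} (f : M [⋀^Fin n]→ₗ[A] N) (h k : Fin n → M) (u₀ : M) (hk : ∀ i, ∃ a : A, k i = a • u₀)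

include hk in
theorem map_piecewise_update (s : Finset (Fin n)) : ∀ i, i ∉ s →
    f (Function.update (s.piecewise (h + k) h) i (k i)) = f (Function.update h i (k i)) := by
  induction s using Finset.induction_on with
  | empty => intro i _; rw [Finset.piecewise_empty]
  | insert j s hj ih =>
    intro i hi
    rw [Finset.mem_insert, not_or] at hi
    rw [Finset.piecewise_insert, Function.update_comm (Ne.symm hi.1), Pi.add_apply,
      f.map_update_add, show Function.update (Function.update (s.piecewise (h + k) h) i (k i)) j (h j) =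
        Function.update (s.piecewise (h + k) h) i (k i) by
        rw [Function.update_comm hi.1, Function.update_eq_self_iff.2 (Finset.piecewise_eq_of_notMem _ _ _ hj).symm],
      ih i hi.2, add_eq_left]
    obtain ⟨a, ha⟩ := hk i
    obtain ⟨b, hb⟩ := hk j
    rw [hb, f.map_update_smul, ha, Function.update_comm hi.1, f.map_update_smul,
      f.map_eq_zero_of_eq _ (i := i) (j := j) (by rw [Function.update_self, Function.update_of_ne (Ne.symm hi.1),
        Function.update_self]) hi.1, smul_zero, smul_zero]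

include hk in
theorem map_add_rank_one : f (h + k) = f h + ∑ i, f (Function.update h i (k i)) := by
  suffices H : ∀ s : Finset (Fin n), f (s.piecewise (h + k) h) = f h + ∑ i ∈ s, f (Function.update h i (k i)) by
    simpa using H Finset.univ
  intro s
  induction s using Finset.induction_on with
  | empty => simp
  | insert j s hj ih =>
    rw [Finset.piecewise_insert, Pi.add_apply, f.map_update_add,
      Function.update_eq_self_iff.2 (Finset.piecewise_eq_of_notMem _ _ _ hj).symm, ih,
      map_piecewise_update f h k u₀ hk s j hj, Finset.sum_insert hj]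
    abel

end Expansion

variable {p : ℕ} [Fact p.Prime] {R : Type u} [CommRing R] {P : Type v} [AddCommGroup P]
  [Module (WittVector p R) P] {D : W4c1extbt610.Display3n p R P}

local notation "W" => WittVector p R
local notation "σ" => (WittVector.frobenius : WittVector p R →+* WittVector p R)

theorem exists_split_rank_one {L T : Submodule W P} (hc : IsCompl L T)
    (hQ : D.Q = L ⊔ W4c1extbt610.IV p R • T) (t : P) (hT : T = Submodule.span W {t}) :
    ∃ S : DispTwenty.Split D, (∀ x, S.πT x ∈ Submodule.span W {t}) ∧ S.πL t = 0 ∧ S.πT t = t ∧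
      ∀ x ∈ L, S.πL x = x := by
  let e := Submodule.prodEquivOfIsCompl L T hc
  let πL : P →ₗ[W] P := L.subtype ∘ₗ LinearMap.fst W L T ∘ₗ e.symm.toLinearMap
  let πT : P →ₗ[W] P := T.subtype ∘ₗ LinearMap.snd W L T ∘ₗ e.symm.toLinearMap
  have hT' : ∀ x ∈ T, πT x = x ∧ πL x = 0 := fun x hx => by
    have : e.symm x = (0, ⟨x, hx⟩) := e.symm_apply_eq.2 (by simp [e])
    simp [πT, πL, this]
  have hL : ∀ x ∈ L, πT x = 0 ∧ πL x = x := fun x hx => by
    have : e.symm x = (⟨x, hx⟩, 0) := e.symm_apply_eq.2 (by simp [e])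
    simp [πT, πL, this]
  refine ⟨⟨πL, πT, fun x => ?_, fun x => hQ ▸ Submodule.mem_sup_left (e.symm x).1.2,
    fun x => (hT' _ (e.symm x).2.2).2, fun y hy => ?_⟩, fun x => hT.le (e.symm x).2.2,
    (hT' t (hT ▸ Submodule.mem_span_singleton_self t)).2, (hT' t (hT ▸ Submodule.mem_span_singleton_self t)).1,
    fun x hx => (hL x hx).2⟩
  · conv_rhs => rw [← e.apply_symm_apply x]
    rfl
  · rw [hQ] at hy
    obtain ⟨l, hl, z, hz, rfl⟩ := Submodule.mem_sup.1 hy
    rw [map_add, (hL l hl).1, zero_add]
    refine Submodule.smul_induction_on hz (fun a ha x hx => ?_) (fun x y hx hy => ?_)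
    · rw [map_smul]
      exact Submodule.smul_mem_smul ha ⟨x, rfl⟩
    · rw [map_add]
      exact add_mem hx hy

theorem exists_gen {T : Submodule W P} (hT : Nonempty (T ≃ₗ[W] W)) : ∃ t, T = Submodule.span W {t} := by
  obtain ⟨e⟩ := hT
  refine ⟨(e.symm 1 : P), le_antisymm (fun x hx => ?_) (Submodule.span_le.2 (by simp))⟩
  refine Submodule.mem_span_singleton.2 ⟨e ⟨x, hx⟩, ?_⟩
  rw [← Submodule.coe_smul, ← map_smul, smul_eq_mul, mul_one, e.symm_apply_apply]

variable (S : DispTwenty.Split D)

/-- The projection to `⋀ L` in an exterior power. -/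
noncomputable def extL (n : ℕ) : (⋀[W]^n P) →ₗ[W] ⋀[W]^n P := exteriorPower.map n S.πL

/-- The complementary projection. -/
noncomputable def extT (n : ℕ) : (⋀[W]^n P) →ₗ[W] ⋀[W]^n P := LinearMap.id - extL S n

theorem extL_extL (n : ℕ) (z : ⋀[W]^n P) : extL S n (extL S n z) = extL S n z := by
  rw [← LinearMap.comp_apply, extL, ← exteriorPower.map_comp]
  congr 2
  refine LinearMap.ext fun x => ?_
  have := congrArg S.πL (S.sum_eq x)
  rwa [map_add, S.L_T, add_zero] at this

theorem extT_ιMulti {t : P} (ht : ∀ x, S.πT x ∈ Submodule.span W {t}) {n : ℕ} (x : Fin n → P) :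
    extT S n (exteriorPower.ιMulti W n x) =
      ∑ i, exteriorPower.ιMulti W n (Function.update (fun j => S.πL (x j)) i (S.πT (x i))) := by
  have h := map_add_rank_one (exteriorPower.ιMulti W n (M := P)) (fun j => S.πL (x j)) (fun j => S.πT (x j)) t
    (fun i => by
      obtain ⟨a, ha⟩ := Submodule.mem_span_singleton.1 (ht (x i))
      exact ⟨a, ha.symm⟩)
  rw [show ((fun j => S.πL (x j)) + fun j => S.πT (x j)) = x from funext fun j => S.sum_eq (x j)] at h
  show exteriorPower.ιMulti W n x - exteriorPower.map n S.πL _ = _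
  rw [exteriorPower.map_apply_ιMulti, sub_eq_iff_eq_add']
  exact h

theorem Q_eq {t : P} (ht : ∀ x, S.πT x ∈ Submodule.span W {t}) (n : ℕ) :
    LinearMap.range (extL S n) ⊔ W4c1extbt610.IV p R • LinearMap.range (extT S n) =
      Submodule.span W (Set.range fun q : Fin n → D.Q => exteriorPower.ιMulti W n (fun i => (q i : P))) := by
  refine le_antisymm (sup_le ?_ ?_) (Submodule.span_le.2 ?_)
  · rw [LinearMap.range_eq_map, ← exteriorPower.ιMulti_span, Submodule.map_span, Submodule.span_le]
    rintro _ ⟨_, ⟨x, rfl⟩, rfl⟩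
    exact Submodule.subset_span ⟨fun i => ⟨S.πL (x i), S.memQ _⟩, (exteriorPower.map_apply_ιMulti _ _).symm⟩
  · rw [LinearMap.range_eq_map, ← exteriorPower.ιMulti_span, Submodule.map_span]
    refine Submodule.smul_le.2 fun a ha z hz => ?_
    induction hz using Submodule.span_induction with
    | mem y hy =>
      obtain ⟨_, ⟨x, rfl⟩, rfl⟩ := hy
      rw [extT_ιMulti S ht, Finset.smul_sum]
      refine Submodule.sum_mem _ fun i _ => ?_
      rw [← AlternatingMap.map_update_smul]
      have hm : ∀ j, Function.update (fun j => S.πL (x j)) i (a • S.πT (x i)) j ∈ D.Q := fun j => by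
        rcases eq_or_ne j i with rfl | hj
        · rw [Function.update_self]; exact DispTwenty.mem_Q_smul D ha _
        · rw [Function.update_of_ne hj]; exact S.memQ _
      exact Submodule.subset_span ⟨fun j => ⟨_, hm j⟩, rfl⟩
    | zero => rw [smul_zero]; exact zero_mem _
    | add x y _ _ hx hy => rw [smul_add]; exact add_mem hx hy
    | smul c x _ hx => rw [smul_comm]; exact Submodule.smul_mem _ _ hx
  · rintro _ ⟨q, rfl⟩
    beta_reduce
    rw [SetLike.mem_coe, ← add_sub_cancel (extL S n (exteriorPower.ιMulti W n fun i => (q i : P)))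
      (exteriorPower.ιMulti W n fun i => (q i : P))]
    refine Submodule.add_mem_sup ⟨_, rfl⟩ ?_
    show extT S n (exteriorPower.ιMulti W n fun i => (q i : P)) ∈ _
    rw [extT_ιMulti S ht]
    refine Submodule.sum_mem _ fun i _ => ?_
    refine Submodule.smul_induction_on (S.T_smul _ (q i).2) (fun a ha z hz => ?_) (fun z z' hz hz' => ?_)
    · rw [AlternatingMap.map_update_smul]
      obtain ⟨y, rfl⟩ := hz
      refine Submodule.smul_mem_smul ha ⟨exteriorPower.ιMulti W n (Function.update (fun j => S.πL (q j : P)) i (S.πT y)), ?_⟩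
      show exteriorPower.ιMulti W n _ - exteriorPower.map n S.πL _ = _
      rw [exteriorPower.map_apply_ιMulti, sub_eq_self]
      exact AlternatingMap.map_coord_zero _ i (by simp [S.L_T])
    · rw [AlternatingMap.map_update_add]
      exact add_mem hz hz'

theorem exists_extPow {t : P} (ht : ∀ x, S.πT x ∈ Submodule.span W {t}) (hLt : S.πL t = 0) (n : ℕ) :
    ∃ E : W4c1extbt610.Display3n p R (⋀[W]^n P), W4c1extbt610.IsExtPow D n E := by
  haveI := D.finite
  haveI := D.projective
  obtain ⟨h1, h2⟩ := finite_projective_ext (A := W) P n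
  have hφ : Submodule.span W (Set.range S.phi) = ⊤ := by
    rw [eq_top_iff]
    intro x _
    obtain ⟨z, rfl⟩ := S.surjective x
    induction z using Dieu.BC.induction_on σ with
    | zero => rw [map_zero]; exact zero_mem _
    | tmul b y => rw [Dieu.BC.lift_tmul]; exact Submodule.smul_mem _ _ (Submodule.subset_span ⟨y, rfl⟩)
    | add a b ha hb => rw [map_add]; exact add_mem (ha Submodule.mem_top) (hb Submodule.mem_top)
  obtain ⟨Φ, hΦ⟩ := exists_semilinear_ext σ S.phi n
  let X : Pre p R (⋀[W]^n P) :=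
    { pL := extL S n
      pT := extT S n
      sum_eq := fun z => by simp [extT]
      L_T := fun z => by simp [extT, extL_extL]
      φ := Φ
      span_eq := span_range_eq_top σ S.phi hφ Φ hΦ }
  obtain ⟨E, hQ, hF, hV⟩ := exists_display X
  refine ⟨E, hQ.trans (Q_eq S ht n), fun q hq => ?_⟩
  have hb : ∀ i, ∃ b, WittVector.verschiebung b • t = S.πT (q i : P) := fun i => by
    obtain ⟨a, ha, hat⟩ := Submodule.mem_smul_span_singleton.1
      (smul_mono_right (W4c1extbt610.IV p R) (show LinearMap.range S.πT ≤ Submodule.span W {t} by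
        rintro _ ⟨y, rfl⟩; exact ht y) (S.T_smul _ (q i).2))
    obtain ⟨b, rfl⟩ := DispTwenty.exists_verschiebung ha
    exact ⟨b, hat⟩
  choose b hb using hb
  let v : Fin n → Fin n → P := fun i => Function.update (fun j => S.πL (q j : P)) i t
  have hz : exteriorPower.ιMulti W n (fun i => (q i : P)) =
      extL S n (exteriorPower.ιMulti W n fun i => (q i : P)) +
        ∑ i, WittVector.verschiebung (b i) • exteriorPower.ιMulti W n (v i) := by
    conv_lhs => rw [← add_sub_cancel (extL S n (exteriorPower.ιMulti W n fun i => (q i : P)))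
      (exteriorPower.ιMulti W n fun i => (q i : P))]
    congr 1
    refine (extT_ιMulti S ht (fun i => (q i : P))).trans ?_
    refine Finset.sum_congr rfl fun i _ => ?_
    rw [← hb i, AlternatingMap.map_update_smul]
  have m1 : X.pL (exteriorPower.ιMulti W n fun i => (q i : P)) ∈ E.Q :=
    hQ ▸ Submodule.mem_sup_left ⟨_, rfl⟩
  have m2 : ∀ i, WittVector.verschiebung (b i) • exteriorPower.ιMulti W n (v i) ∈ E.Q := fun i =>
    DispTwenty.mem_Q_smul E (W4c1extbt610.verschiebung_mem_IV p R _) _
  rw [show (⟨_, hq⟩ : E.Q) = ⟨_, m1⟩ + ∑ i, ⟨_, m2 i⟩ from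
    Subtype.ext (by simp only [Submodule.coe_add, Submodule.coe_sum]; exact hz), map_add, map_sum, hV]
  simp only [DispTwenty.Vinv_V_smul]
  have hTt : S.πT t = t := by
    have := S.sum_eq t
    rwa [hLt, zero_add] at this
  have hLLT : ∀ y, S.phi (S.πL y) = D.Vinv ⟨S.πL y, S.memQ y⟩ := fun y => by
    have hLL : S.πL (S.πL y) = S.πL y := by
      have := congrArg S.πL (S.sum_eq y)
      rwa [map_add, S.L_T, add_zero] at this
    have hTL : S.πT (S.πL y) = 0 := by
      have := S.sum_eq (S.πL y)
      rwa [hLL, add_eq_left] at this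
    rw [S.phi_apply, hTL, map_zero, add_zero]
    exact congrArg D.Vinv (Subtype.ext hLL)
  have hFv : ∀ i, E.F (exteriorPower.ιMulti W n (v i)) =
      exteriorPower.ιMulti W n (Function.update (fun j => D.Vinv ⟨S.πL (q j : P), S.memQ _⟩) i (D.F t)) := by
    intro i
    have h0 : extL S n (exteriorPower.ιMulti W n (v i)) = 0 := by
      rw [extL, exteriorPower.map_apply_ιMulti]
      exact AlternatingMap.map_coord_zero _ i (by simp [v, hLt])
    have hh : ((p : W) • X.pL + X.pT) (exteriorPower.ιMulti W n (v i)) = exteriorPower.ιMulti W n (v i) := by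
      show (p : W) • extL S n _ + (exteriorPower.ιMulti W n (v i) - extL S n _) = _
      rw [h0, smul_zero, sub_zero, zero_add]
    rw [hF]
    show Φ (((p : W) • X.pL + X.pT) _) = _
    rw [hh, hΦ]
    congr 1
    funext j
    rcases eq_or_ne j i with rfl | hj
    · simp only [v, Function.update_self]
      rw [S.phi_apply, show (⟨S.πL t, S.memQ t⟩ : D.Q) = 0 from Subtype.ext hLt, map_zero, zero_add, hTt]
    · simp only [v, Function.update_of_ne hj]
      exact hLLT _
  simp only [hFv, ← AlternatingMap.map_update_smul]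
  show Φ (extL S n _) + _ = _
  rw [extL, exteriorPower.map_apply_ιMulti, hΦ]
  simp only [Function.comp_apply, hLLT]
  refine (map_add_rank_one (exteriorPower.ιMulti W n (M := P)) _ (fun i => b i • D.F t) (D.F t)
    (fun i => ⟨b i, rfl⟩)).symm.trans ?_
  congr 1
  funext i
  have m : WittVector.verschiebung (b i) • t ∈ D.Q := DispTwenty.mem_Q_smul D (W4c1extbt610.verschiebung_mem_IV p R _) _
  rw [Pi.add_apply, ← DispTwenty.Vinv_V_smul D (b i) t m, ← map_add]
  exact congrArg D.Vinv (Subtype.ext (by simp only [Submodule.coe_add, hb]; exact S.sum_eq _))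

theorem extPow_unique {n : ℕ} {E E' : W4c1extbt610.Display3n p R (⋀[W]^n P)}
    (h : W4c1extbt610.IsExtPow D n E) (h' : W4c1extbt610.IsExtPow D n E') : E' = E := by
  have hQ : E'.Q = E.Q := h'.1.trans h.1.symm
  have hV : ∀ (z) (hz : z ∈ E'.Q) (hz' : z ∈ E.Q), E'.Vinv ⟨z, hz⟩ = E.Vinv ⟨z, hz'⟩ := by
    intro z hz hz'
    have hz0 := hz
    rw [h'.1] at hz0
    induction hz0 using Submodule.span_induction with
    | mem y hy => obtain ⟨q, rfl⟩ := hy; rw [h'.2 q hz, h.2 q hz']
    | zero =>
      rw [show (⟨0, hz⟩ : E'.Q) = 0 from rfl, show (⟨0, hz'⟩ : E.Q) = 0 from rfl, map_zero, map_zero]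
    | add x y hx hy ihx ihy =>
      have a1 : x ∈ E'.Q := h'.1 ▸ hx
      have a2 : y ∈ E'.Q := h'.1 ▸ hy
      have b1 : x ∈ E.Q := h.1 ▸ hx
      have b2 : y ∈ E.Q := h.1 ▸ hy
      rw [show (⟨x + y, hz⟩ : E'.Q) = ⟨x, a1⟩ + ⟨y, a2⟩ from rfl,
        show (⟨x + y, hz'⟩ : E.Q) = ⟨x, b1⟩ + ⟨y, b2⟩ from rfl, map_add, map_add, ihx a1 b1, ihy a2 b2]
    | smul a x hx ih =>
      have a1 : x ∈ E'.Q := h'.1 ▸ hx
      have b1 : x ∈ E.Q := h.1 ▸ hx
      rw [show (⟨a • x, hz⟩ : E'.Q) = a • ⟨x, a1⟩ from rfl,
        show (⟨a • x, hz'⟩ : E.Q) = a • ⟨x, b1⟩ from rfl, map_smulₛₗ, map_smulₛₗ, ih a1 b1]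
  have hF : E'.F = E.F := LinearMap.ext fun x => by
    have m := DispTwenty.mem_Q_smul E' (W4c1extbt610.verschiebung_mem_IV p R 1) x
    have e1 := DispTwenty.Vinv_V_smul E' 1 x m
    have e2 := DispTwenty.Vinv_V_smul E 1 x (hQ ▸ m)
    rw [one_smul] at e1 e2
    rw [← e1, ← e2, hV _ m (hQ ▸ m)]
  cases E' with
  | mk Q F Vinv _ _ _ _ _ _ =>
    cases E with
    | mk Q' F' Vinv' _ _ _ _ _ _ =>
      dsimp only at hQ hF hV
      subst hQ hF
      obtain rfl : Vinv = Vinv' := LinearMap.ext fun z => hV z z.2 z.2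
      rfl

end Groth.Agent.DispExt
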