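import Groth.Agent.DispTwenty.BaseChange

/-!
# 3n-displays from a pair of projections and a semilinear epimorphism
-/

set_option autoImplicit false
set_option linter.style.haveILetI false
universe u v

namespace Groth.Agent.DispExt

variable {p : ℕ} [Fact p.Prime] {R : Type u} [CommRing R] {M : Type v} [AddCommGroup M] [Module (WittVector p R) M]

local notation "W" => WittVector p R
local notation "σ" => (WittVector.frobenius : WittVector p R →+* WittVector p R)

/-- Input data for a 3n-display. -/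
structure Pre (p : ℕ) [Fact p.Prime] (R : Type u) [CommRing R] (M : Type v) [AddCommGroup M]
    [Module (WittVector p R) M] where
  pL : M →ₗ[WittVector p R] M
  pT : M →ₗ[WittVector p R] M
  sum_eq : ∀ x, pL x + pT x = x
  L_T : ∀ x, pL (pT x) = 0
  φ : M →ₛₗ[(WittVector.frobenius : WittVector p R →+* WittVector p R)] M
  span_eq : Submodule.span (WittVector p R) (Set.range φ) = ⊤

/-- The submodule `L + I T`. -/
noncomputable def Pre.Q (X : Pre p R M) : Submodule W M :=
  LinearMap.range X.pL ⊔ W4c1extbt610.IV p R • LinearMap.range X.pT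

theorem Pre.T_T (X : Pre p R M) (x : M) : X.pT (X.pT x) = X.pT x := by
  have := X.sum_eq (X.pT x)
  rwa [X.L_T, zero_add] at this

theorem Pre.L_L (X : Pre p R M) (x : M) : X.pL (X.pL x) = X.pL x := by
  have := congrArg X.pL (X.sum_eq x)
  rwa [map_add, X.L_T, add_zero] at this

theorem Pre.T_L (X : Pre p R M) (x : M) : X.pT (X.pL x) = 0 := by
  have := X.sum_eq (X.pL x)
  rwa [X.L_L, add_eq_left] at this

theorem Pre.IV_smul_le (X : Pre p R M) : W4c1extbt610.IV p R • (⊤ : Submodule W M) ≤ X.Q := by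
  refine Submodule.smul_le.2 fun a ha x _ => ?_
  rw [← X.sum_eq x, smul_add]
  exact Submodule.add_mem_sup (⟨a • x, map_smul _ _ _⟩) (Submodule.smul_mem_smul ha ⟨x, rfl⟩)

theorem Pre.coord_mem (X : Pre p R M) {r : ℕ} (s : M →ₗ[W] (Fin r → W)) {x : M} (hx : x ∈ X.Q) (j : Fin r) :
    s (X.pT x) j ∈ W4c1extbt610.IV p R := by
  obtain ⟨_, ⟨a, rfl⟩, t, ht, rfl⟩ := Submodule.mem_sup.1 hx
  rw [map_add, X.T_L, zero_add]
  refine Submodule.smul_induction_on ht (fun c hc y _ => ?_) (fun y y' hy hy' => ?_)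
  · rw [map_smul, map_smul, Pi.smul_apply, smul_eq_mul]; exact Ideal.mul_mem_right _ _ hc
  · rw [map_add, map_add, Pi.add_apply]; exact add_mem hy hy'

/-- `V⁻¹`. -/
noncomputable def Pre.Vinv (X : Pre p R M) {r : ℕ} (π : (Fin r → W) →ₗ[W] M) (s : M →ₗ[W] (Fin r → W)) :
    X.Q →ₛₗ[σ] M where
  toFun x := X.φ (X.pL (x : M)) +
    ∑ j, DispTwenty.unV (s (X.pT (x : M)) j) • X.φ (X.pT (DispTwenty.gen π j))
  map_add' x y := by
    have e : ∀ j, DispTwenty.unV (s (X.pT ((x + y : X.Q) : M)) j) =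
        DispTwenty.unV (s (X.pT (x : M)) j) + DispTwenty.unV (s (X.pT (y : M)) j) := fun j => by
      refine DispTwenty.unV_eq ?_
      rw [map_add, DispTwenty.verschiebung_unV (X.coord_mem s x.2 j), DispTwenty.verschiebung_unV (X.coord_mem s y.2 j),
        Submodule.coe_add, map_add, map_add, Pi.add_apply]
    simp only [e, add_smul, Finset.sum_add_distrib]
    rw [Submodule.coe_add, map_add, map_add]
    abel
  map_smul' a x := by
    have e : ∀ j, DispTwenty.unV (s (X.pT ((a • x : X.Q) : M)) j) =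
        σ a * DispTwenty.unV (s (X.pT (x : M)) j) := fun j => by
      refine DispTwenty.unV_eq ?_
      rw [DispTwenty.verschiebung_frobenius_mul, DispTwenty.verschiebung_unV (X.coord_mem s x.2 j),
        Submodule.coe_smul, map_smul, map_smul, Pi.smul_apply, smul_eq_mul]
    simp only [e, mul_smul, ← Finset.smul_sum]
    rw [Submodule.coe_smul, map_smul, map_smulₛₗ, smul_add]

theorem Pre.Vinv_L (X : Pre p R M) {r : ℕ} (π : (Fin r → W) →ₗ[W] M) (s : M →ₗ[W] (Fin r → W)) (x : M)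
    (h : X.pL x ∈ X.Q) : X.Vinv π s ⟨X.pL x, h⟩ = X.φ (X.pL x) := by
  show X.φ (X.pL (X.pL x)) + ∑ j, DispTwenty.unV (s (X.pT (X.pL x)) j) • X.φ (X.pT (DispTwenty.gen π j)) = _
  have e : ∀ j, DispTwenty.unV (s (X.pT (X.pL x)) j) = 0 := fun j => by
    refine DispTwenty.unV_eq ?_
    rw [X.T_L, map_zero, map_zero]
    rfl
  simp [e, X.L_L]

/-- `F`. -/
noncomputable def Pre.F (X : Pre p R M) : M →ₛₗ[σ] M := X.φ.comp ((p : W) • X.pL + X.pT)

theorem Pre.Vinv_V_smul (X : Pre p R M) {r : ℕ} {π : (Fin r → W) →ₗ[W] M} {s : M →ₗ[W] (Fin r → W)}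
    (hπ : π ∘ₗ s = LinearMap.id) (w : W) (x : M) (h : WittVector.verschiebung w • x ∈ X.Q) :
    X.Vinv π s ⟨_, h⟩ = w • X.F x := by
  show X.φ (X.pL (WittVector.verschiebung w • x)) +
    ∑ j, DispTwenty.unV (s (X.pT (WittVector.verschiebung w • x)) j) • X.φ (X.pT (DispTwenty.gen π j)) = _
  have e : ∀ j, DispTwenty.unV (s (X.pT (WittVector.verschiebung w • x)) j) = w * σ (s (X.pT x) j) := fun j => by
    refine DispTwenty.unV_eq ?_
    rw [map_smul, map_smul, Pi.smul_apply, smul_eq_mul, WittVector.verschiebung_mul_frobenius]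
  simp only [e, mul_smul, ← map_smulₛₗ]
  rw [← Finset.smul_sum, ← map_sum]
  simp only [← map_smul]
  rw [← map_sum, DispTwenty.sum_smul_gen hπ, X.T_T, map_smul, map_smulₛₗ, WittVector.frobenius_verschiebung,
    mul_smul, ← smul_add]
  congr 1
  show _ = X.φ ((p : W) • X.pL x + X.pT x)
  rw [map_add, map_smulₛₗ, map_natCast]

theorem exists_display [Module.Finite W M] [Module.Projective W M] (X : Pre p R M) :
    ∃ E : W4c1extbt610.Display3n p R M, E.Q = X.Q ∧ E.F = X.F ∧
      ∀ (x : M) (h : X.pL x ∈ E.Q), E.Vinv ⟨X.pL x, h⟩ = X.φ (X.pL x) := by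
  obtain ⟨r, π, s, hπ⟩ := DispTwenty.exists_coords W M
  refine ⟨{
    Q := X.Q
    F := X.F
    Vinv := X.Vinv π s
    finite := inferInstance
    projective := inferInstance
    IV_smul_le := X.IV_smul_le
    exists_normal := ?_
    span_range_Vinv := ?_
    Vinv_verschiebung_smul := fun w x => X.Vinv_V_smul hπ w x _ }, rfl, rfl, X.Vinv_L π s⟩
  · refine ⟨LinearMap.range X.pL, LinearMap.range X.pT, ⟨?_, ?_⟩, rfl⟩
    · rw [Submodule.disjoint_def]
      rintro _ ⟨a, rfl⟩ ⟨b, hb⟩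
      rw [← hb, ← X.T_T, hb, X.T_L]
    · rw [codisjoint_iff, eq_top_iff]
      intro z _
      rw [← X.sum_eq z]
      exact Submodule.add_mem_sup ⟨z, rfl⟩ ⟨z, rfl⟩
  · rw [eq_top_iff, ← X.span_eq, Submodule.span_le]
    rintro _ ⟨x, rfl⟩
    rw [← X.sum_eq x, map_add]
    have h1 : X.pL x ∈ X.Q := Submodule.mem_sup_left ⟨x, rfl⟩
    have h2 : WittVector.verschiebung (1 : W) • X.pT x ∈ X.Q :=
      X.IV_smul_le (Submodule.smul_mem_smul (W4c1extbt610.verschiebung_mem_IV p R _) Submodule.mem_top)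
    refine add_mem (Submodule.subset_span ⟨⟨_, h1⟩, X.Vinv_L π s x h1⟩) (Submodule.subset_span ⟨⟨_, h2⟩, ?_⟩)
    rw [X.Vinv_V_smul hπ, one_smul]
    show X.φ ((p : W) • X.pL (X.pT x) + X.pT (X.pT x)) = _
    rw [X.L_T, smul_zero, zero_add, X.T_T]

end Groth.Agent.DispExt
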